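import Groth.Agent.Lib.FtPts3.Basic

set_option linter.style.haveILetI false

universe u

namespace FtPts3
open AlgebraicGeometry CategoryTheory Limits IsLocalRing

theorem isClosed_singleton_iff_specializes {T : Type*} [TopologicalSpace T] (a : T) :
    IsClosed ({a} : Set T) ↔ ∀ b, a ⤳ b → b = a := by
  refine ⟨fun h b hb => ?_, fun h => closure_subset_iff_isClosed.1 fun b hb => h b (specializes_iff_mem_closure.2 hb)⟩
  exact (specializes_iff_mem_closure.1 hb) |> fun hb => h.closure_subset hb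

theorem eq_asFiber_iff {X S : Scheme.{u}} (f : X ⟶ S) (x : X) (z : ↑(f.fiber (f x))) :
    z = f.asFiber x ↔ f.fiberι (f x) z = x :=
  ⟨fun h => h ▸ f.fiberι_asFiber x, fun h => (f.fiberι (f x)).isEmbedding.injective (h.trans (f.fiberι_asFiber x).symm)⟩

theorem forall_fiber {X S : Scheme.{u}} (f : X ⟶ S) (s : S) {P : X → Prop} :
    (∀ z : ↑(f.fiber s), P (f.fiberι s z)) ↔ ∀ y : X, f y = s → P y := by
  refine ⟨fun h y hy => ?_, fun h z => h _ ?_⟩
  · obtain ⟨z, rfl⟩ : y ∈ Set.range (f.fiberι s) := by rw [f.range_fiberι]; exact hy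
    exact h z
  · have : f.fiberι s z ∈ Set.range (f.fiberι s) := ⟨z, rfl⟩
    rw [f.range_fiberι] at this
    exact this

theorem isClosed_asFiber_iff {X S : Scheme.{u}} (f : X ⟶ S) (x : X) :
    IsClosed ({f.asFiber x} : Set ↑(f.fiber (f x))) ↔ ∀ y : X, f y = f x → x ⤳ y → y = x := by
  rw [isClosed_singleton_iff_specializes, ← forall_fiber f (f x) (P := fun y => x ⤳ y → y = x)]
  refine forall_congr' fun z => ?_
  rw [← eq_asFiber_iff, ← (f.fiberι (f x)).isEmbedding.isInducing.specializes_iff, f.fiberι_asFiber]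

theorem noGen_asFiber_iff {X S : Scheme.{u}} (f : X ⟶ S) (x : X) :
    (∀ z : ↑(f.fiber (f x)), z ⤳ f.asFiber x → z = f.asFiber x) ↔ ∀ y : X, f y = f x → y ⤳ x → y = x := by
  rw [← forall_fiber f (f x) (P := fun y => y ⤳ x → y = x)]
  refine forall_congr' fun z => ?_
  rw [← eq_asFiber_iff, ← (f.fiberι (f x)).isEmbedding.isInducing.specializes_iff, f.fiberι_asFiber]

theorem isOpen_singleton_prime {R : Type*} [CommRing R] [IsNoetherianRing R] (p : PrimeSpectrum R)
    (hmin : ∀ q : PrimeSpectrum R, q ⤳ p → q = p) (hmax : ∀ q : PrimeSpectrum R, p ⤳ q → q = p) :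
    IsOpen ({p} : Set (PrimeSpectrum R)) := by
  have hfin := minimalPrimes.finite_of_isNoetherianRing R
  have : ({p} : Set (PrimeSpectrum R)) =
      (⋃ m ∈ (minimalPrimes R \ {p.asIdeal}), PrimeSpectrum.zeroLocus (m : Set R))ᶜ := by
    ext q
    simp only [Set.mem_singleton_iff, Set.mem_compl_iff, Set.mem_iUnion, PrimeSpectrum.mem_zeroLocus,
      Set.mem_sdiff, SetLike.coe_subset_coe, exists_prop, not_exists, not_and]
    constructor
    · rintro rfl m hm hle
      haveI := hm.1.1.1
      have := hmin ⟨m, inferInstance⟩ ((PrimeSpectrum.le_iff_specializes _ _).1 hle)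
      exact hm.2 (congrArg PrimeSpectrum.asIdeal this)
    · intro h
      obtain ⟨m, hm, hmq⟩ := Ideal.exists_minimalPrimes_le (bot_le : (⊥ : Ideal R) ≤ q.asIdeal)
      by_cases hmp : m = p.asIdeal
      · exact hmax q ((PrimeSpectrum.le_iff_specializes p q).1 (show p.asIdeal ≤ q.asIdeal from hmp ▸ hmq))
      · exact absurd hmq (h m ⟨hm, hmp⟩)
  rw [this, isOpen_compl_iff]
  exact (hfin.sdiff).isClosed_biUnion fun m _ => PrimeSpectrum.isClosed_zeroLocus _

theorem isOpen_singleton_of_noGen {X : Scheme.{u}} [IsLocallyNoetherian X] (x : X)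
    (hc : IsClosed ({x} : Set X)) (hg : ∀ y, y ⤳ x → y = x) : IsOpen ({x} : Set X) := by
  obtain ⟨U, hU, hxU, -⟩ := exists_isAffineOpen_mem_and_subset (X := X) (x := x) (U := ⊤) trivial
  haveI : IsNoetherianRing Γ(X, U) := IsLocallyNoetherian.component_noetherian ⟨U, hU⟩
  let j := hU.fromSpec
  obtain ⟨p, hp⟩ : x ∈ Set.range j := by rw [hU.range_fromSpec]; exact hxU
  suffices h : IsOpen ({p} : Set (Spec Γ(X, U))) by
    have := j.isOpenEmbedding.isOpenMap _ h
    rwa [Set.image_singleton, hp] at this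
  have hmin : ∀ q : Spec Γ(X, U), q ⤳ p → q = p := fun q hq =>
    j.isOpenEmbedding.injective ((hg _ (hp ▸ hq.map j.continuous)).trans hp.symm)
  have hmax : ∀ q : Spec Γ(X, U), p ⤳ q → q = p := fun q hq =>
    j.isOpenEmbedding.injective (((isClosed_singleton_iff_specializes x).1 hc _ (hp ▸ hq.map j.continuous)).trans hp.symm)
  exact isOpen_singleton_prime (R := Γ(X, U)) p hmin hmax

theorem isLocallyNoetherian_fiber {X S : Scheme.{u}} (f : X ⟶ S) [LocallyOfFiniteType f] (s : S) :
    IsLocallyNoetherian (f.fiber s) :=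
  haveI : LocallyOfFiniteType (f.fiberToSpecResidueField s) := MorphismProperty.pullback_snd _ _ inferInstance
  LocallyOfFiniteType.isLocallyNoetherian (f.fiberToSpecResidueField s)

theorem quasiFiniteAt_iff_specializes {X S : Scheme.{u}} (f : X ⟶ S) [LocallyOfFiniteType f] (x : X) :
    f.QuasiFiniteAt x ↔
      IsClosed ({f.asFiber x} : Set ↑(f.fiber (f x))) ∧ ∀ z : ↑(f.fiber (f x)), z ⤳ f.asFiber x → z = f.asFiber x := by
  refine ⟨fun h => ?_, fun ⟨hc, hg⟩ => ?_⟩
  · have h' := h.isClopen_singleton_asFiber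
    exact ⟨h'.isClosed, fun z hz => Set.mem_singleton_iff.1 (hz.mem_open h'.isOpen rfl)⟩
  · haveI := isLocallyNoetherian_fiber f (f x)
    exact Scheme.Hom.quasiFiniteAt_iff_isOpen_singleton_asFiber.2 (isOpen_singleton_of_noGen _ hc hg)

theorem isClosed_asFiber_baseChange {X S X' S' : Scheme.{u}} (f : X ⟶ S) [LocallyOfFiniteType f] (g : S' ⟶ S)
    (g' : X' ⟶ X) (f' : X' ⟶ S') (hsq : IsPullback g' f' f g) (x' : X')
    (hx : IsClosed ({f.asFiber (g' x')} : Set ↑(f.fiber (f (g' x'))))) :
    IsClosed ({f'.asFiber x'} : Set ↑(f'.fiber (f' x'))) := by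
  have hfin := (isClosed_asFiber_iff_finite f (g' x')).1 hx
  have hspec := (isClosed_asFiber_iff f (g' x')).1 hx
  rw [isClosed_asFiber_iff]
  intro y' hy' hsp
  have e1 : ∀ z : X', f (g' z) = g (f' z) := fun z => by
    rw [← Scheme.Hom.comp_apply, hsq.w, Scheme.Hom.comp_apply]
  have hy : g' y' = g' x' := hspec _ (by rw [e1, e1, hy']) (hsp.map g'.continuous)
  clear hx hspec
  set x := g' x' with hx_def
  let P := pullback g' (X.fromSpecResidueField x)
  let a : P ⟶ X' := pullback.fst _ _
  let b : P ⟶ Spec (X.residueField x) := pullback.snd _ _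
  let h := a ≫ f'
  have hP : IsPullback b h (X.fromSpecResidueField x ≫ f) g :=
    (IsPullback.of_hasPullback g' (X.fromSpecResidueField x)).flip.paste_vert hsq
  have hP' : IsPullback b h (Spec.map (f.residueFieldMap x) ≫ S.fromSpecResidueField (f x)) g := by
    rw [Scheme.Hom.SpecMap_residueFieldMap_fromSpecResidueField]; exact hP
  let W := pullback (S.fromSpecResidueField (f x)) g
  let t : W ⟶ S' := pullback.snd _ _
  let m : P ⟶ W := pullback.lift (b ≫ Spec.map (f.residueFieldMap x)) h (by rw [Category.assoc]; exact hP'.w)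
  have hm : IsPullback b m (Spec.map (f.residueFieldMap x)) (pullback.fst (S.fromSpecResidueField (f x)) g) := by
    refine IsPullback.of_bot ?_ (pullback.lift_fst _ _ _).symm (IsPullback.of_hasPullback _ _)
    rw [pullback.lift_snd]; exact hP'
  haveI : IsFinite (Spec.map (f.residueFieldMap x)) := (IsFinite.SpecMap_iff _).2 hfin
  haveI : IsFinite m := MorphismProperty.of_isPullback hm inferInstance
  have hxr : x' ∈ Set.range a := by
    rw [Scheme.Pullback.range_fst, Scheme.range_fromSpecResidueField]; exact hx_def.symm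
  have hyr : y' ∈ Set.range a := by
    rw [Scheme.Pullback.range_fst, Scheme.range_fromSpecResidueField]; exact hy
  obtain ⟨p, hp⟩ := hxr
  obtain ⟨q, hq⟩ := hyr
  have hpq : p ⤳ q := a.isEmbedding.isInducing.specializes_iff.1 (by rw [hp, hq]; exact hsp)
  have hmq : m q = m p := t.isEmbedding.injective (by
    rw [← Scheme.Hom.comp_apply, ← Scheme.Hom.comp_apply, pullback.lift_snd, Scheme.Hom.comp_apply, Scheme.Hom.comp_apply, hp, hq]
    exact hy')
  have hc := (isClosed_asFiber_iff m p).1 (m.quasiFiniteAt p).isClopen_singleton_asFiber.isClosed q hmq hpq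
  rw [← hq, ← hp, hc]

theorem quasiFiniteAt_baseChange_iff {X S X' S' : Scheme.{u}} (f : X ⟶ S) [LocallyOfFiniteType f] (g : S' ⟶ S)
    (g' : X' ⟶ X) (f' : X' ⟶ S') (hsq : IsPullback g' f' f g) (x' : X') :
    f'.QuasiFiniteAt x' ↔ f.QuasiFiniteAt (g' x') := by
  haveI : LocallyOfFiniteType f' := MorphismProperty.of_isPullback hsq inferInstance
  refine ⟨fun h => ?_, fun h => ?_⟩
  · have ho := Scheme.Hom.quasiFiniteAt_iff_isOpen_singleton_asFiber.1 h
    rw [Scheme.Hom.quasiFiniteAt_iff_isOpen_singleton_asFiber]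
    have hF := isPullback_fiberToSpecResidueField_of_isPullback hsq (f' x')
    haveI : IsIntegral (Spec (S.residueField (g (f' x')))) := inferInstance
    haveI : Subsingleton ↑(Spec (S.residueField (g (f' x')))) :=
      inferInstanceAs (Subsingleton (PrimeSpectrum (S.residueField (g (f' x')))))
    haveI : UniversallyOpen (Spec.map (g.residueFieldMap (f' x'))) := inferInstance
    have hu := MorphismProperty.of_isPullback hF.flip (P := @UniversallyOpen) inferInstance
    have key := (@Scheme.Hom.isOpenMap _ _ _ hu) _ ho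
    erw [Set.image_singleton] at key
    have e : f (g' x') = g (f' x') := by rw [← Scheme.Hom.comp_apply, hsq.w, Scheme.Hom.comp_apply]
    have h1 : ∀ (s : S) (hs : f (g' x') = s) (w : ↑(f.fiber s)), f.fiberι s w = g' x' → IsOpen ({w} : Set ↑(f.fiber s)) →
        IsOpen ({f.asFiber (g' x')} : Set ↑(f.fiber (f (g' x')))) := by
      rintro _ rfl w hw ho
      rwa [(eq_asFiber_iff f _ w).2 hw] at ho
    refine h1 _ e _ ?_ key
    refine ((congrArg (fun φ : f'.fiber (f' x') ⟶ X => φ (f'.asFiber x'))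
      (pullback.lift_fst _ _ _)) : _).trans ?_
    exact congrArg g' (f'.fiberι_asFiber x')
  · obtain ⟨hc, hg⟩ := (quasiFiniteAt_iff_specializes f _).1 h
    refine (quasiFiniteAt_iff_specializes f' x').2 ⟨isClosed_asFiber_baseChange f g g' f' hsq x' hc, ?_⟩
    rw [noGen_asFiber_iff] at hg ⊢
    intro y' hy' hsp
    have e1 : ∀ z : X', f (g' z) = g (f' z) := fun z => by
      rw [← Scheme.Hom.comp_apply, hsq.w, Scheme.Hom.comp_apply]
    have hy : g' y' = g' x' := hg _ (by rw [e1, e1, hy']) (hsp.map g'.continuous)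
    have := isClosed_asFiber_baseChange f g g' f' hsq y' (by rw [hy]; exact hc)
    exact ((isClosed_asFiber_iff f' y').1 this x' hy'.symm hsp).symm

end FtPts3
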