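import Mathlib

/-! Finite type points of schemes and closed points in fibres. -/

set_option linter.style.haveILetI false

universe u

namespace FtPts3
open AlgebraicGeometry CategoryTheory Limits IsLocalRing

theorem exists_basic_eq_ker {R k : Type*} [CommRing R] [Field k] (φ : R →+* k) (hφ : φ.FiniteType) :
    ∃ g : R, φ g ≠ 0 ∧ ∀ q : Ideal R, q.IsPrime → RingHom.ker φ ≤ q → g ∉ q → q = RingHom.ker φ := by
  classical
  letI := φ.toAlgebra
  haveI : Algebra.FiniteType R k := hφ
  let D := R ⧸ RingHom.ker φ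
  letI : Algebra D k := (RingHom.kerLift φ).toAlgebra
  haveI : IsScalarTower R D k := IsScalarTower.of_algebraMap_eq fun _ => rfl
  haveI : Algebra.FiniteType D k := Algebra.FiniteType.of_restrictScalars_finiteType R D k
  haveI : IsDomain D := Function.Injective.isDomain (RingHom.kerLift φ) (RingHom.kerLift_injective φ)
  haveI : FaithfulSMul D k := (faithfulSMul_iff_algebraMap_injective D k).2 (RingHom.kerLift_injective φ)
  let K := FractionRing D
  letI : Algebra K k := FractionRing.liftAlgebra D k
  haveI : IsScalarTower D K k := inferInstance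
  haveI : Algebra.FiniteType K k := Algebra.FiniteType.of_restrictScalars_finiteType D K k
  haveI : Module.Finite K k := finite_of_finite_type_of_isJacobsonRing K k
  haveI : Algebra.IsAlgebraic D k := (IsFractionRing.comap_isAlgebraic_iff (A := D) (K := K) (C := k)).2 inferInstance
  obtain ⟨s, hs⟩ := (inferInstance : Algebra.FiniteType D k).out
  choose a ha0 ha using fun x : k => (Algebra.IsAlgebraic.isAlgebraic (R := D) x).exists_integral_multiple
  let g₁ : D := ∏ x ∈ s, a x
  have hg₁ : g₁ ≠ 0 := Finset.prod_ne_zero_iff.2 fun x _ => ha0 x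
  obtain ⟨g, hg⟩ := Ideal.Quotient.mk_surjective g₁
  have hgk : φ g ≠ 0 := fun h => hg₁ (by rw [← hg, Ideal.Quotient.eq_zero_iff_mem]; exact h)
  refine ⟨g, hgk, fun q hq hle hgq => ?_⟩
  let A := Localization.Away g₁
  have hu : IsUnit (algebraMap D k g₁) := isUnit_iff_ne_zero.2 (by
    rw [← map_zero (algebraMap D k)]; exact (RingHom.kerLift_injective φ).ne hg₁)
  let L : A →+* k := IsLocalization.Away.lift g₁ hu
  letI : Algebra A k := L.toAlgebra
  haveI : IsScalarTower D A k := IsScalarTower.of_algebraMap_eq fun d => (IsLocalization.Away.lift_eq g₁ hu d).symm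
  haveI : Algebra.IsIntegral A k := by
    refine ⟨fun y => ?_⟩
    let IC : Subalgebra D k := (integralClosure A k).restrictScalars D
    suffices h : Algebra.adjoin D (s : Set k) ≤ IC from h (hs ▸ Algebra.mem_top)
    refine Algebra.adjoin_le fun x hx => ?_
    have h1 : IsIntegral A (a x • x) := (ha x).tower_top
    have h2 : IsUnit (algebraMap D A (a x)) :=
      isUnit_of_dvd_unit (map_dvd _ (Finset.dvd_prod_of_mem a hx)) (IsLocalization.Away.algebraMap_isUnit g₁)
    obtain ⟨w, hw⟩ := h2.exists_left_inv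
    show IsIntegral A x
    have : x = w • (a x • x) := by
      rw [← algebraMap_smul A (a x) x, ← mul_smul, hw, one_smul]
    rw [this]
    exact h1.smul w
  have hinj : Function.Injective L := by
    rw [injective_iff_map_eq_zero]
    intro z hz
    obtain ⟨d, m, rfl⟩ := IsLocalization.exists_mk'_eq (Submonoid.powers g₁) z
    rw [IsLocalization.mk'_eq_zero_iff]
    refine ⟨1, ?_⟩
    have hz' : L (IsLocalization.mk' A d m * algebraMap D A m) = 0 := by rw [map_mul, hz, zero_mul]
    rw [IsLocalization.mk'_spec] at hz'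
    rw [show L (algebraMap D A d) = algebraMap D k d from IsLocalization.Away.lift_eq g₁ hu d] at hz'
    rw [OneMemClass.coe_one, one_mul]
    exact RingHom.kerLift_injective φ (hz'.trans (map_zero _).symm)
  haveI : FaithfulSMul A k := (faithfulSMul_iff_algebraMap_injective A k).2 hinj
  have hA : IsField A := isField_of_isIntegral_of_isField hinj (Field.toIsField k)
  refine le_antisymm (fun r hr => ?_) hle
  by_contra hr0
  have hd : algebraMap D A (Ideal.Quotient.mk _ r) ≠ 0 := by
    intro h0
    apply hr0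
    have h1 : L (algebraMap D A (Ideal.Quotient.mk _ r)) = 0 := by rw [h0, map_zero]
    rw [IsLocalization.Away.lift_eq g₁ hu] at h1
    exact h1
  obtain ⟨z, hz⟩ := hA.mul_inv_cancel hd
  obtain ⟨n, d, hnd⟩ : ∃ (n : ℕ) (d : D), (Ideal.Quotient.mk _ r) * d = g₁ ^ n := by
    obtain ⟨d, ⟨_, n, rfl⟩, rfl⟩ := IsLocalization.exists_mk'_eq (Submonoid.powers g₁) z
    refine ⟨n, d, ?_⟩
    rw [← IsLocalization.mk'_one (M := Submonoid.powers g₁), ← IsLocalization.mk'_mul, IsLocalization.mk'_eq_iff_eq_mul,
      one_mul, one_mul] at hz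
    refine (faithfulSMul_iff_algebraMap_injective D k).1 inferInstance ?_
    have := congrArg L hz
    simpa [IsLocalization.Away.lift_eq g₁ hu, L] using this
  obtain ⟨d, rfl⟩ := Ideal.Quotient.mk_surjective d
  rw [← hg, ← map_mul, ← map_pow, Ideal.Quotient.eq] at hnd
  have := hle hnd
  have h2 := q.sub_mem (q.mul_mem_right d hr) this
  rw [sub_sub_cancel] at h2
  exact hgq (hq.mem_of_pow_mem n h2)

theorem exists_affine_closed {S : Scheme.{u}} {k : Type u} [Field k] (f : Spec (.of k) ⟶ S) [LocallyOfFiniteType f] :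
    ∃ U : S.Opens, IsAffineOpen U ∧ ∃ hu : f.base (closedPoint k) ∈ U,
      IsClosed ({⟨f.base (closedPoint k), hu⟩} : Set ↥U) := by
  obtain ⟨W, hW, hxW, -⟩ := exists_isAffineOpen_mem_and_subset (X := S) (x := f.base (closedPoint k)) (U := ⊤) trivial
  have hr : Set.range f.base ⊆ Set.range hW.fromSpec.base := by
    rintro _ ⟨y, rfl⟩
    rw [hW.range_fromSpec, Subsingleton.elim (α := PrimeSpectrum k) y (closedPoint k)]
    exact hxW
  let f' := IsOpenImmersion.lift hW.fromSpec f hr
  have hfac : f' ≫ hW.fromSpec = f := IsOpenImmersion.lift_fac _ _ _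
  haveI : LocallyOfFiniteType (f' ≫ hW.fromSpec) := hfac.symm ▸ inferInstance
  haveI : LocallyOfFiniteType f' := locallyOfFiniteType_of_comp f' hW.fromSpec
  obtain ⟨φ, hφ⟩ := Spec.map_surjective f'
  have hft : φ.hom.FiniteType := by
    rw [← HasRingHomProperty.Spec_iff (P := @LocallyOfFiniteType), hφ]; infer_instance
  obtain ⟨g, hg0, hg⟩ := exists_basic_eq_ker φ.hom hft
  let V : (Spec Γ(S, W)).Opens := PrimeSpectrum.basicOpen g
  have hp : (Spec.map φ).base (closedPoint k) ∈ V := by
    show g ∉ Ideal.comap φ.hom (maximalIdeal k)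
    simp [IsLocalRing.mem_maximalIdeal, isUnit_iff_ne_zero, hg0]
  have heq : hW.fromSpec.base ((Spec.map φ).base (closedPoint k)) = f.base (closedPoint k) := by
    rw [hφ, ← Scheme.Hom.comp_apply, hfac]
  have hu : f.base (closedPoint k) ∈ hW.fromSpec ''ᵁ V := ⟨_, hp, heq⟩
  refine ⟨hW.fromSpec ''ᵁ V, IsAffineOpen.image_of_isOpenImmersion (IsAffineOpen.Spec_basicOpen g) _, hu, ?_⟩
  rw [← closure_subset_iff_isClosed]
  intro y hy
  have hsp : f.base (closedPoint k) ⤳ y.1 := (specializes_iff_mem_closure.2 hy).map continuous_subtype_val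
  obtain ⟨q, hq, hqy⟩ := y.2
  rw [← heq, ← hqy] at hsp
  replace hsp := (PrimeSpectrum.le_iff_specializes _ _).2 (hW.fromSpec.isOpenEmbedding.isInducing.specializes_iff.1 hsp)
  have hker : ((Spec.map φ).base (closedPoint k)).asIdeal = RingHom.ker φ.hom := by
    show Ideal.comap φ.hom (maximalIdeal k) = _
    rw [IsLocalRing.isField_iff_maximalIdeal_eq.1 (Field.toIsField k)]
    rfl
  have hle : RingHom.ker φ.hom ≤ q.asIdeal := hker ▸ hsp
  have : q = (Spec.map φ).base (closedPoint k) := PrimeSpectrum.ext (by rw [hker]; exact hg _ q.2 hle hq)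
  rw [Set.mem_singleton_iff]
  exact Subtype.ext (by rw [← hqy, this]; exact heq)

theorem lft_of_closed_in_open {S : Scheme.{u}} (U : S.Opens) {u : S} (hu : u ∈ U)
    (hc : IsClosed ({⟨u, hu⟩} : Set ↥U)) : LocallyOfFiniteType (S.fromSpecResidueField u) := by
  let u' : U.toScheme := ⟨u, hu⟩
  haveI : IsClosedImmersion (U.toScheme.fromSpecResidueField u') := isClosed_singleton_iff_isClosedImmersion.mp hc
  have h := Scheme.Hom.SpecMap_residueFieldMap_fromSpecResidueField U.ι u'
  have hl : LocallyOfFiniteType (Spec.map (U.ι.residueFieldMap u') ≫ S.fromSpecResidueField (U.ι u')) := by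
    rw [h]; infer_instance
  haveI : IsIso (U.ι.residueFieldMap u') := inferInstance
  haveI : IsIso (Spec.map (U.ι.residueFieldMap u')) := inferInstance
  exact (MorphismProperty.cancel_left_of_respectsIso (P := @LocallyOfFiniteType)
    (Spec.map (U.ι.residueFieldMap u')) (S.fromSpecResidueField (U.ι u'))).1 hl

theorem mem_ftPts_iff {S : Scheme.{u}} (s : S) :
    LocallyOfFiniteType (S.fromSpecResidueField s) ↔
      ∃ U : S.Opens, IsAffineOpen U ∧ ∃ hs : s ∈ U, IsClosed ({⟨s, hs⟩} : Set ↥U) := by
  refine ⟨fun h => ?_, fun ⟨U, _, hs, hc⟩ => lft_of_closed_in_open U hs hc⟩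
  obtain ⟨U, hU, hu, hc⟩ := @exists_affine_closed S (S.residueField s) _ (S.fromSpecResidueField s) h
  have e : (S.fromSpecResidueField s).base (closedPoint (S.residueField s)) = s := S.fromSpecResidueField_apply s _
  refine ⟨U, hU, by rw [← e]; exact hu, ?_⟩
  convert hc using 3
  exact e.symm

theorem mem_ftPts_of_field {S : Scheme.{u}} {k : Type u} [Field k] (f : Spec (.of k) ⟶ S) [LocallyOfFiniteType f] :
    LocallyOfFiniteType (S.fromSpecResidueField (f.base (closedPoint k))) := by
  obtain ⟨U, _, hu, hc⟩ := exists_affine_closed f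
  exact lft_of_closed_in_open U hu hc

theorem mem_ftPts_map {T S : Scheme.{u}} (f : T ⟶ S) [LocallyOfFiniteType f] (t : T)
    [LocallyOfFiniteType (T.fromSpecResidueField t)] :
    LocallyOfFiniteType (S.fromSpecResidueField (f.base t)) := by
  have h := mem_ftPts_of_field (k := T.residueField t) (T.fromSpecResidueField t ≫ f)
  rwa [Scheme.Hom.comp_apply, Scheme.fromSpecResidueField_apply] at h

theorem exists_mem_of_isLocallyClosed {S : Scheme.{u}} {Z : Set S} (hZ : IsLocallyClosed Z) (hne : Z.Nonempty) :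
    ∃ z ∈ Z, LocallyOfFiniteType (S.fromSpecResidueField z) := by
  obtain ⟨O, C, hO, hC, rfl⟩ := hZ
  obtain ⟨x, hxO, hxC⟩ := hne
  obtain ⟨U, hU, hxU, hUO⟩ := exists_isAffineOpen_mem_and_subset (X := S) (x := x) (U := ⟨O, hO⟩) hxO
  haveI : CompactSpace ↥U := isCompact_iff_compactSpace.1 hU.isCompact
  obtain ⟨y, hyC, hy⟩ := IsClosed.exists_closed_singleton (hC.preimage (continuous_subtype_val : Continuous (Subtype.val : ↥U → S)))
    ⟨⟨x, hxU⟩, hxC⟩
  exact ⟨y.1, ⟨hUO y.2, hyC⟩, lft_of_closed_in_open U y.2 hy⟩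

theorem finite_residueFieldMap_of_lft {X S : Scheme.{u}} (f : X ⟶ S) (x : X)
    [LocallyOfFiniteType (X.fromSpecResidueField x ≫ f)] : (f.residueFieldMap x).hom.Finite := by
  haveI : LocallyOfFiniteType (Spec.map (f.residueFieldMap x) ≫ S.fromSpecResidueField (f x)) := by
    rw [Scheme.Hom.SpecMap_residueFieldMap_fromSpecResidueField]; infer_instance
  haveI := locallyOfFiniteType_of_comp (Spec.map (f.residueFieldMap x)) (S.fromSpecResidueField (f x))
  have h : (f.residueFieldMap x).hom.FiniteType :=
    (HasRingHomProperty.Spec_iff (P := @LocallyOfFiniteType)).1 inferInstance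
  algebraize [(f.residueFieldMap x).hom]
  exact finite_of_finite_type_of_isJacobsonRing _ _

theorem isClosed_asFiber_of_isIntegral {X S : Scheme.{u}} (f : X ⟶ S) (x : X)
    (h : (f.residueFieldMap x).hom.IsIntegral) : IsClosed ({f.asFiber x} : Set ↑(f.fiber (f x))) := by
  rw [(f.fiber (f x)).affineCover.isOpenCover_opensRange.isClosed_iff_coe_preimage]
  intro i
  let V := ((f.fiber (f x)).affineCover.f i).opensRange
  haveI : IsAffine V := isAffineOpen_opensRange _
  by_cases hx : f.asFiber x ∈ V
  · have hr : Set.range (f.asFiberHom x).base ⊆ Set.range V.ι.base := by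
      rw [Scheme.Opens.range_ι, Scheme.Hom.range_asFiberHom]
      exact Set.singleton_subset_iff.2 hx
    let l := IsOpenImmersion.lift V.ι (f.asFiberHom x) hr
    haveI : IsIntegralHom (Spec.map (f.residueFieldMap x)) := IsIntegralHom.SpecMap_iff.2 h
    have e : l ≫ V.ι ≫ f.fiberToSpecResidueField (f x) = Spec.map (f.residueFieldMap x) := by
      rw [IsOpenImmersion.lift_fac_assoc, Scheme.Hom.asFiberHom_fiberToSpecResidueField]
    haveI : UniversallyClosed (l ≫ V.ι ≫ f.fiberToSpecResidueField (f x)) := e.symm ▸ inferInstance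
    haveI : UniversallyClosed l := UniversallyClosed.of_comp_of_isSeparated l (V.ι ≫ f.fiberToSpecResidueField (f x))
    have := l.isClosedMap.isClosed_range
    suffices he : (Subtype.val ⁻¹' {f.asFiber x} : Set ↥V) = Set.range l.base from he ▸ this
    ext y
    constructor
    · intro hy
      refine ⟨closedPoint (X.residueField x), Subtype.ext ?_⟩
      rw [show (l.base (closedPoint (X.residueField x))).1 = V.ι.base (l.base (closedPoint (X.residueField x))) from rfl,
        ← Scheme.Hom.comp_apply, IsOpenImmersion.lift_fac, Scheme.Hom.asFiberHom_apply]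
      exact (Set.mem_singleton_iff.1 hy).symm
    · rintro ⟨t, rfl⟩
      show V.ι.base (l.base t) = _
      rw [← Scheme.Hom.comp_apply, IsOpenImmersion.lift_fac, Scheme.Hom.asFiberHom_apply]
  · convert isClosed_empty
    ext y
    exact iff_of_false (fun hy => hx (Set.mem_singleton_iff.1 hy ▸ y.2)) id

theorem isClosed_asFiber_iff_finite {X S : Scheme.{u}} (f : X ⟶ S) [LocallyOfFiniteType f] (x : X) :
    IsClosed ({f.asFiber x} : Set ↑(f.fiber (f x))) ↔ (f.residueFieldMap x).hom.Finite := by
  refine ⟨fun h => ?_, fun h => isClosed_asFiber_of_isIntegral f x h.to_isIntegral⟩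
  haveI : IsClosedImmersion (f.asFiberHom x) := .of_isPreimmersion _ (by rw [Scheme.Hom.range_asFiberHom]; exact h)
  haveI : LocallyOfFiniteType (f.fiberToSpecResidueField (f x)) := MorphismProperty.pullback_snd _ _ inferInstance
  haveI : LocallyOfFiniteType (Spec.map (f.residueFieldMap x)) := by
    rw [← Scheme.Hom.asFiberHom_fiberToSpecResidueField]; infer_instance
  have h : (f.residueFieldMap x).hom.FiniteType :=
    (HasRingHomProperty.Spec_iff (P := @LocallyOfFiniteType)).1 inferInstance
  algebraize [(f.residueFieldMap x).hom]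
  exact finite_of_finite_type_of_isJacobsonRing _ _

end FtPts3
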